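import Groth.Agent.ZeroSch.Basic
import Groth.Agent.Nakai.PullIdeal
import Groth.Agent.S8914
import Groth.Agent.TMul.Assoc
import Groth.Agent.TMul.RelAmple
import Groth.Agent.AmpleDesc.Basic
import Groth.Agent.C1Cap.PullGen

/-!
The canonical section of the inverse of the ideal of an effective Cartier divisor.
-/

set_option autoImplicit false
set_option backward.isDefEq.respectTransparency false
set_option backward.isDefEq.respectTransparency.types false

universe u

open CategoryTheory CategoryTheory.Limits AlgebraicGeometry TopologicalSpace Opposite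
open Groth.Agent.QC (res resO app_res res_self res_res res_smul)

noncomputable section

namespace Groth.Agent.AbelMap

variable {X : Scheme.{u}}

/-- `m ⊗ a ↦ a m`. -/
def scaleHom (M : X.Modules) (I : X.IdealSheafData) : CohB1.tensorMod M (ClSub.idealMod I) ⟶ M :=
  TMul.lift (fun U => LinearMap.mk₂ _
      (fun m a => (show Γ(X, U) from (ClSub.idealModι I).app U a) • m)
      (fun m m' a => smul_add _ _ _) (fun r m a => smul_comm _ r m)
      (fun m a a' => by
        rw [← add_smul]
        exact congrArg (· • m) (map_add ((ClSub.idealModι I).app U).hom a a'))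
      (fun r m a => by
        rw [← mul_smul]
        exact congrArg (· • m) (Scheme.Modules.Hom.app_smul (ClSub.idealModι I) r a)))
    fun {V U} h m a => by
      change res M h ((show Γ(X, U) from (ClSub.idealModι I).app U a) • m) =
        (show Γ(X, V) from (ClSub.idealModι I).app V (res _ h a)) • res M h m
      rw [res_smul]
      exact congrArg (· • res M h m) (app_res (ClSub.idealModι I) h a)

lemma scaleHom_tm (M : X.Modules) (I : X.IdealSheafData) {U : X.Opens} (m : Γ(M, U))
    (a : Γ(ClSub.idealMod I, U)) :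
    (scaleHom M I).app U (TMul.tm m a) = (show Γ(X, U) from (ClSub.idealModι I).app U a) • m := by
  unfold scaleHom
  refine (TMul.lift_tm _ ?_ m a).trans rfl
  intro V U h m a
  change res M h ((show Γ(X, U) from (ClSub.idealModι I).app U a) • m) =
    (show Γ(X, V) from (ClSub.idealModι I).app V (res _ h a)) • res M h m
  rw [res_smul]
  exact congrArg (· • res M h m) (app_res (ClSub.idealModι I) h a)

lemma isGen_app {M N : X.Modules} (e : M ≅ N) {U : X.Opens} {g : Γ(M, U)} (hg : TMul.IsGen g) :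
    TMul.IsGen (e.hom.app U g) := fun V hV => by
  have h : (fun c : Γ(X, V) => c • res N hV (e.hom.app U g)) = e.hom.app V ∘ fun c => c • res M hV g := by
    funext c
    simp only [Function.comp_apply, TMul.app_smul, app_res]
  rw [h]
  exact (ConcreteCategory.bijective_of_isIso (e.hom.app V)).comp (hg V hV)

/-- The canonical section. -/
theorem exists_section {I : X.IdealSheafData} (hI : BlowUp.IsEffCartierIdeal I) {M : X.Modules}
    (hM : PicF.IsInvertible M) (he : ClSub.IsInverseOf M (ClSub.idealMod I)) :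
    ∃ s : Coh.structureModule X ⟶ M, PicF2.zeroScheme M s = I := by
  obtain ⟨e⟩ := he
  have hIi := (Groth.Agent.S8914.result I).2 hI
  refine ⟨e.inv ≫ scaleHom M I, ?_⟩
  have loc : ∀ x : X, ∃ U : X.affineOpens, x ∈ U.1 ∧
      (PicF2.zeroScheme M (e.inv ≫ scaleHom M I)).ideal U = I.ideal U := fun x => by
    obtain ⟨U₁, g₁, hx₁, hg₁⟩ := TMul.exists_isGen hM x
    obtain ⟨U₂, a₂, hx₂, ha₂⟩ := TMul.exists_isGen hIi x
    obtain ⟨U, hU, hxU, hUle⟩ := exists_isAffineOpen_mem_and_subset (x := x) (U := U₁ ⊓ U₂) ⟨hx₁, hx₂⟩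
    replace hUle : U ≤ U₁ ⊓ U₂ := hUle
    have hg := hg₁.res (hUle.trans inf_le_left)
    have ha := ha₂.res (hUle.trans inf_le_right)
    let g := res M (hUle.trans inf_le_left) g₁
    let a := res (ClSub.idealMod I) (hUle.trans inf_le_right) a₂
    let a' : Γ(X, U) := (ClSub.idealModι I).app U a
    let v : Γ(X, U) := e.hom.app U (TMul.tm g a)
    obtain ⟨c, hc⟩ := ((isGen_app e (TMul.isGen_tm hg ha)) U le_rfl).2 (1 : Γ(X, U))
    have hcv : c * v = 1 := by
      simp only [res_self] at hc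
      exact hc
    have hinv : e.inv.app U (1 : Γ(X, U)) = c • TMul.tm g a := by
      have h1 : e.hom.app U (c • TMul.tm g a) = (1 : Γ(X, U)) := by
        rw [TMul.app_smul]
        exact hcv
      rw [← h1]
      exact congr(($(e.hom_inv_id)).app U (c • TMul.tm g a))
    have hval : TMul.val (e.inv ≫ scaleHom M I) U = (c * a') • g := by
      change (scaleHom M I).app U (e.inv.app U (1 : Γ(X, U))) = _
      rw [hinv, TMul.app_smul, scaleHom_tm, ← mul_smul]
    refine ⟨⟨U, hU⟩, hxU, ?_⟩
    rw [ZeroSch.ideal_zeroScheme_eq_span _ hM ⟨U, hU⟩ hg hval,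
      ResDesc.ideal_eq_span_of_isGen I hU ha (f := a') rfl,
      Ideal.span_singleton_mul_left_unit (IsUnit.of_mul_eq_one v hcv)]
  choose U hxU hid using loc
  exact Scheme.IdealSheafData.ext_of_iSup_eq_top (fun x => U x)
    (Opens.ext (Set.eq_univ_of_forall fun x => Opens.mem_iSup.2 ⟨x, hxU x⟩)) hid

/-- Outside its zero scheme a section generates. -/
theorem mem_genLocus_of_notMem {M : X.Modules} (hM : PicF.IsInvertible M) (s : Coh.structureModule X ⟶ M)
    {z : X} (hz : z ∉ (PicF2.zeroScheme M s).support) : z ∈ CohB1.genLocus M s := by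
  obtain ⟨U₁, g₁, hx₁, hg₁⟩ := TMul.exists_isGen hM z
  obtain ⟨U, hU, hzU, hUle⟩ := exists_isAffineOpen_mem_and_subset (x := z) (U := U₁) hx₁
  replace hUle : U ≤ U₁ := hUle
  have hg := hg₁.res hUle
  obtain ⟨c, hc⟩ := (hg U le_rfl).2 (TMul.val s U)
  simp only [res_self] at hc
  refine (TMul.mem_genLocus_iff_isUnit s hg hc.symm hzU).2 ?_
  rw [Scheme.IdealSheafData.mem_support_iff_of_mem (U := ⟨U, hU⟩) hzU,
    ZeroSch.ideal_zeroScheme_eq_span s hM ⟨U, hU⟩ hg hc.symm, Scheme.zeroLocus_span,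
    Scheme.mem_zeroLocus_iff] at hz
  push Not at hz
  obtain ⟨d, hd, hzd⟩ := hz
  obtain rfl := Set.mem_singleton_iff.1 hd
  exact (X.mem_basicOpen _ z hzU).1 hzd

/-- A multiple of a section vanishes on its zero scheme. -/
theorem zeroScheme_le_of_smul {M : X.Modules} (hM : PicF.IsInvertible M)
    (s s' : Coh.structureModule X ⟶ M) (c : Γ(X, ⊤))
    (h : TMul.val s' ⊤ = c • TMul.val s ⊤) : PicF2.zeroScheme M s' ≤ PicF2.zeroScheme M s := by
  have loc : ∀ x : X, ∃ U : X.affineOpens, x ∈ U.1 ∧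
      (PicF2.zeroScheme M s').ideal U ≤ (PicF2.zeroScheme M s).ideal U := fun x => by
    obtain ⟨U₁, g₁, hx₁, hg₁⟩ := TMul.exists_isGen hM x
    obtain ⟨U, hU, hxU, hUle⟩ := exists_isAffineOpen_mem_and_subset (x := x) (U := U₁) hx₁
    replace hUle : U ≤ U₁ := hUle
    have hg := hg₁.res hUle
    obtain ⟨d, hd⟩ := (hg U le_rfl).2 (TMul.val s U)
    simp only [res_self] at hd
    have h' : TMul.val s' U = (resO X le_top c * d) • res M hUle g₁ := by
      rw [mul_smul, hd, ← TMul.res_val s' (le_top : U ≤ ⊤), h, res_smul, TMul.res_val]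
    refine ⟨⟨U, hU⟩, hxU, ?_⟩
    rw [ZeroSch.ideal_zeroScheme_eq_span s' hM ⟨U, hU⟩ hg h',
      ZeroSch.ideal_zeroScheme_eq_span s hM ⟨U, hU⟩ hg hd.symm]
    exact Ideal.span_singleton_le_span_singleton.2 (dvd_mul_left _ _)
  choose U hxU hid using loc
  exact Scheme.IdealSheafData.le_of_iSup_eq_top (fun x => U x)
    (Opens.ext (Set.eq_univ_of_forall fun x => Opens.mem_iSup.2 ⟨x, hxU x⟩)) hid

/-- Zero schemes do not see isomorphisms. -/
theorem zeroScheme_comp_iso {M M' : X.Modules} (hM : PicF.IsInvertible M) (hM' : PicF.IsInvertible M')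
    (s : Coh.structureModule X ⟶ M) (j : M ≅ M') :
    PicF2.zeroScheme M' (s ≫ j.hom) = PicF2.zeroScheme M s := by
  have loc : ∀ x : X, ∃ U : X.affineOpens, x ∈ U.1 ∧
      (PicF2.zeroScheme M' (s ≫ j.hom)).ideal U = (PicF2.zeroScheme M s).ideal U := fun x => by
    obtain ⟨U₁, g₁, hx₁, hg₁⟩ := TMul.exists_isGen hM x
    obtain ⟨U, hU, hxU, hUle⟩ := exists_isAffineOpen_mem_and_subset (x := x) (U := U₁) hx₁
    replace hUle : U ≤ U₁ := hUle
    have hg := hg₁.res hUle
    obtain ⟨d, hd⟩ := (hg U le_rfl).2 (TMul.val s U)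
    simp only [res_self] at hd
    have h' : TMul.val (s ≫ j.hom) U = d • j.hom.app U (res M hUle g₁) := by
      change j.hom.app U (TMul.val s U) = _
      rw [← hd, TMul.app_smul]
    refine ⟨⟨U, hU⟩, hxU, ?_⟩
    rw [ZeroSch.ideal_zeroScheme_eq_span _ hM' ⟨U, hU⟩ (isGen_app j hg) h',
      ZeroSch.ideal_zeroScheme_eq_span s hM ⟨U, hU⟩ hg hd.symm]
  choose U hxU hid using loc
  exact Scheme.IdealSheafData.ext_of_iSup_eq_top (fun x => U x)
    (Opens.ext (Set.eq_univ_of_forall fun x => Opens.mem_iSup.2 ⟨x, hxU x⟩)) hid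

/-- The pulled back section. -/
def pullSec {Y : Scheme.{u}} (g : X ⟶ Y) {M : Y.Modules} (s : Coh.structureModule Y ⟶ M) :
    Coh.structureModule X ⟶ (Scheme.Modules.pullback g).obj M :=
  (PicLoc.pullbackStructureIso g).inv ≫ (Scheme.Modules.pullback g).map s

/-- Zero schemes commute with base change. -/
theorem zeroScheme_pullSec {Y : Scheme.{u}} (g : X ⟶ Y) {M : Y.Modules} (hM : PicF.IsInvertible M)
    (s : Coh.structureModule Y ⟶ M) :
    PicF2.zeroScheme ((Scheme.Modules.pullback g).obj M) (pullSec g s) = (PicF2.zeroScheme M s).comap g := by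
  have hM' : PicF.IsInvertible ((Scheme.Modules.pullback g).obj M) := PicLoc.isInvertible_pullback g hM
  have loc : ∀ x : X, ∃ D : X.affineOpens, x ∈ D.1 ∧
      (PicF2.zeroScheme ((Scheme.Modules.pullback g).obj M) (pullSec g s)).ideal D =
        ((PicF2.zeroScheme M s).comap g).ideal D := fun x => by
    obtain ⟨U₁, g₁, hx₁, hg₁⟩ := TMul.exists_isGen hM (g x)
    obtain ⟨U, hU, hxU, hUle⟩ := exists_isAffineOpen_mem_and_subset (x := g x) (U := U₁) hx₁
    replace hUle : U ≤ U₁ := hUle
    have hg := hg₁.res hUle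
    obtain ⟨d, hd⟩ := (hg U le_rfl).2 (TMul.val s U)
    simp only [res_self] at hd
    obtain ⟨D, hD, hxD, hDle⟩ := exists_isAffineOpen_mem_and_subset (x := x) (U := g ⁻¹ᵁ U) hxU
    replace hDle : D ≤ g ⁻¹ᵁ U := hDle
    have hgen : TMul.IsGen (ModDesc.pullSectLE g M U D hDle (res M hUle g₁)) := by
      rw [ModDesc.pullSectLE_apply]
      exact (C1Cap.isGen_eta g hg).res _
    have hval : TMul.val (pullSec g s) D =
        (g.appLE U D hDle).hom d • ModDesc.pullSectLE g M U D hDle (res M hUle g₁) := by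
      rw [← ModDesc.pullSectLE_smul, hd, ← TMul.res_val (pullSec g s) (le_top : D ≤ ⊤)]
      refine (congrArg (res _ (le_top : D ≤ ⊤)) ?_).trans
        ((ModDesc.res_pullSectLE g M (le_top : U ≤ ⊤) (le_top : D ≤ ⊤) le_rfl hDle (TMul.val s ⊤)).trans
          (congrArg (ModDesc.pullSectLE g M U D hDle) (TMul.res_val s le_top)))
      rw [ModDesc.pullSectLE_apply]
      exact (AmpleDesc.val_pullback g s).trans (res_self _ _ _).symm
    refine ⟨⟨D, hD⟩, hxD, ?_⟩
    rw [ZeroSch.ideal_zeroScheme_eq_span _ hM' ⟨D, hD⟩ hgen hval,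
      FpqcDescent.ideal_comap_appLE (PicF2.zeroScheme M s) g ⟨U, hU⟩ ⟨D, hD⟩ hDle,
      ZeroSch.ideal_zeroScheme_eq_span s hM ⟨U, hU⟩ hg hd.symm, Ideal.map_span, Set.image_singleton]
  choose D hxD hid using loc
  exact Scheme.IdealSheafData.ext_of_iSup_eq_top (fun x => D x)
    (Opens.ext (Set.eq_univ_of_forall fun x => Opens.mem_iSup.2 ⟨x, hxD x⟩)) hid

end Groth.Agent.AbelMap
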