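import Groth.Agent.W7Hull.PushOne
import Groth.Agent.W7Strat.SeeBC
import Groth.Agent.AbelMap.Section
import Groth.Agent.CurveRR.Euler

/-!
A section that vanishes on no fibre generates the direct image when the fibres have one section.
-/

set_option autoImplicit false
set_option backward.isDefEq.respectTransparency false
set_option backward.isDefEq.respectTransparency.types false
set_option linter.style.haveILetI false
set_option maxHeartbeats 2000000

universe u

open CategoryTheory CategoryTheory.Limits AlgebraicGeometry TopologicalSpace Opposite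
open Groth.Agent.QC (res resO app_res res_self res_res res_smul)

noncomputable section

namespace Groth.Agent.AbelMap

/-- A vector of a rank one module that is nonzero in every fibre generates. -/
theorem span_singleton_eq_top_of_rank_le_one {A : Type u} [CommRing A] (R : Type u) [AddCommGroup R] [Module A R]
    [Module.Flat A R] [Module.FinitePresentation A R] (hr : ∀ p : PrimeSpectrum A, Module.rankAtStalk R p ≤ 1)
    (s : R) (hne : ∀ (p : PrimeSpectrum A) (r a : A) (e : R), r ∉ p.asIdeal → r • s = a • e → a ∉ p.asIdeal) :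
    Submodule.span A {s} = ⊤ := by
  refine eq_top_iff.2 fun x _ => ?_
  by_contra hx
  let I : Ideal A := (Submodule.span A {s}).colon {x}
  have hI : I ≠ ⊤ := fun h => hx (by simpa using Submodule.mem_colon_singleton.1 (h ▸ Submodule.mem_top : (1 : A) ∈ I))
  obtain ⟨m, hm, hIm⟩ := I.exists_le_maximal hI
  let p : PrimeSpectrum A := ⟨m, hm.isPrime⟩
  let L := LocalizedModule p.asIdeal.primeCompl R
  let Ap := Localization.AtPrime p.asIdeal
  haveI : Module.Flat Ap L := inferInstance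
  haveI : Module.Free Ap L := Module.free_of_flat_of_isLocalRing
  haveI : Module.Finite Ap L := inferInstance
  have hrk : Module.finrank Ap L ≤ 1 := hr p
  obtain ⟨v, hv⟩ := (finrank_le_one_iff).1 hrk
  obtain ⟨⟨e, t⟩, rfl⟩ := IsLocalizedModule.mk'_surjective p.asIdeal.primeCompl (LocalizedModule.mkLinearMap p.asIdeal.primeCompl R) v
  have key : ∀ y : R, ∃ (r a : A), r ∉ p.asIdeal ∧ r • y = a • e := fun y => by
    obtain ⟨c, hc⟩ := hv (LocalizedModule.mkLinearMap p.asIdeal.primeCompl R y)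
    obtain ⟨a, u, rfl⟩ := IsLocalization.exists_mk'_eq p.asIdeal.primeCompl c
    simp only [Function.uncurry] at hc
    rw [IsLocalizedModule.mk'_smul_mk'] at hc
    rw [← IsLocalizedModule.mk'_one p.asIdeal.primeCompl (LocalizedModule.mkLinearMap p.asIdeal.primeCompl R) y,
      IsLocalizedModule.mk'_eq_mk'_iff] at hc
    obtain ⟨w, hw⟩ := hc
    simp only [Submonoid.smul_def, Submonoid.coe_mul, OneMemClass.coe_one, one_smul, ← mul_smul] at hw
    exact ⟨w * (u * t), w * a, (w * (u * t)).2, hw⟩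
  obtain ⟨r, a, hrp, h1⟩ := key s
  obtain ⟨r', a', hr'p, h2⟩ := key x
  refine (p.asIdeal.primeCompl.mul_mem (hne p r a e hrp h1) hr'p) (hIm (Submodule.mem_colon_singleton.2 ?_))
  refine Submodule.mem_span_singleton.2 ⟨a' * r, ?_⟩
  rw [mul_smul, h1, mul_smul, h2, smul_comm]

variable {X S : Scheme.{u}} (f : X ⟶ S) [IsProper f] [Flat f] [LocallyOfFinitePresentation f]

/-- One section nonvanishing on every fibre: spanning and rank one. -/
theorem spanAt_and_fiberRank {E : X.Modules} (hE : PicF.IsInvertible E) (s : Coh.structureModule X ⟶ E)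
    (hne : ∀ t : S, ∃ z, f z = t ∧ z ∈ CohB1.genLocus E s) (hr : ∀ t : S, CohIII.fiberRank f E 0 t ≤ 1)
    (t : S) (U : S.Opens) (htU : t ∈ U) (hle : f.fiberToSpecResidueField t ⁻¹ᵁ ⊤ ≤ f.fiberι t ⁻¹ᵁ (f ⁻¹ᵁ U)) :
    W7Cech.SpanAt f E (f.fiberToSpecResidueField t) (f.fiberι t) U ⊤ hle ∧ CohIII.fiberRank f E 0 t = 1 ∧
      ModDesc.pullSectLE (f.fiberι t) E (f ⁻¹ᵁ U) (f.fiberToSpecResidueField t ⁻¹ᵁ ⊤) hle
        (TMul.val s (f ⁻¹ᵁ U)) ≠ 0 := by
  let s₁ : Γ(E, f ⁻¹ᵁ U) := TMul.val s (f ⁻¹ᵁ U)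
  let st := ModDesc.pullSectLE (f.fiberι t) E (f ⁻¹ᵁ U) (f.fiberToSpecResidueField t ⁻¹ᵁ ⊤) hle s₁
  have hst : st ≠ 0 := fun h0 => by
    obtain ⟨z, hz, hzg⟩ := hne t
    obtain ⟨z', rfl⟩ : z ∈ Set.range (f.fiberι t) := by rw [Scheme.Hom.range_fiberι]; exact hz
    obtain ⟨D, hzD, hD⟩ := (TMul.mem_genLocus_iff s).1 hzg
    have hzU : f.fiberι t z' ∈ f ⁻¹ᵁ U := hle (trivial : z' ∈ f.fiberToSpecResidueField t ⁻¹ᵁ (⊤ : (Spec (S.residueField t)).Opens))
    have hD' : TMul.IsGen (TMul.val s (D ⊓ f ⁻¹ᵁ U)) := by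
      rw [← TMul.res_val s (inf_le_left : D ⊓ f ⁻¹ᵁ U ≤ D)]
      exact hD.res _
    let ι := f.fiberι t
    let W' := ι ⁻¹ᵁ (D ⊓ f ⁻¹ᵁ U)
    have hgen : TMul.IsGen (ModDesc.pullSectLE ι E (D ⊓ f ⁻¹ᵁ U) W' le_rfl (TMul.val s (D ⊓ f ⁻¹ᵁ U))) := by
      rw [ModDesc.pullSectLE_apply]
      exact (C1Cap.isGen_eta ι hD').res _
    have h1 : ModDesc.pullSectLE ι E (D ⊓ f ⁻¹ᵁ U) W' le_rfl (TMul.val s (D ⊓ f ⁻¹ᵁ U)) = 0 := by
      have hDU : D ⊓ f ⁻¹ᵁ U ≤ f ⁻¹ᵁ U := inf_le_right
      rw [← TMul.res_val s hDU]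
      rw [← ModDesc.res_pullSectLE ι E hDU (show W' ≤ f.fiberToSpecResidueField t ⁻¹ᵁ ⊤ from fun _ _ => trivial)
        hle le_rfl, show ModDesc.pullSectLE ι E (f ⁻¹ᵁ U) _ hle (TMul.val s (f ⁻¹ᵁ U)) = st from rfl,
        h0, map_zero]
    haveI : Nonempty W' := ⟨⟨z', hzD, hzU⟩⟩
    haveI : Nontrivial Γ(f.fiber t, W') :=
      ((f.fiber t).presheaf.germ W' z' ⟨hzD, hzU⟩).hom.domain_nontrivial
    exact one_ne_zero ((hgen W' le_rfl).1 (a₁ := (1 : Γ(f.fiber t, W'))) (a₂ := 0) (by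
      simp only [h1, map_zero, smul_zero, zero_smul]))
  letI : (f.fiber t).Over (Spec (CommRingCat.of (S.residueField t))) := ⟨f.fiberToSpecResidueField t⟩
  haveI : IsProper (f.fiber t ↘ Spec (CommRingCat.of (S.residueField t))) :=
    MorphismProperty.pullback_snd _ _ ‹IsProper f›
  haveI := CurveRR.isNoetherian_of_proper (S.residueField t) (f.fiber t)
  let M := CohIII.fiberMod f E t
  let V := ((CohIII.globalSectionsA (S.residueField t)).obj M : Type u)
  haveI : Module.Finite (S.residueField t) (Coh.HH (f.fiber t) M 0) :=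
    CohFinite.finite_proper (S.residueField t) (f.fiber t) _ (CurveRR.isCoh_of_inv (PicLoc.isInvertible_pullback _ hE)) 0
  haveI : Module.Finite (S.residueField t) V := Module.Finite.equiv (W7Cech.gsH0L (S.residueField t) M).symm
  have h1 : Module.finrank (S.residueField t) V = 1 := by
    refine le_antisymm ((W7Cech.gsH0L (S.residueField t) M).finrank_eq.trans_le (hr t)) ?_
    haveI : Nontrivial V := ⟨⟨(show V from st), 0, hst⟩⟩
    exact Module.finrank_pos
  refine ⟨?_, (W7Cech.gsH0L (S.residueField t) M).finrank_eq.symm.trans h1, hst⟩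
  refine eq_top_iff.2 fun x _ => ?_
  obtain ⟨c, hc⟩ := (finrank_eq_one_iff_of_nonzero' (show V from st) (hst)).1 h1 (show V from x)
  have hx : x = ((Scheme.ΓSpecIso (S.residueField t)).inv.hom c) •
      (show (W7Cech.SM (f.fiberToSpecResidueField t) M (f.fiberToSpecResidueField t ⁻¹ᵁ ⊤) le_rfl : Type u) from
        st) := by
    refine hc.symm.trans ?_
    change (((f.fiberToSpecResidueField t).app ⊤).hom ((Scheme.ΓSpecIso (S.residueField t)).inv.hom c)) • st =
      ((f.fiberToSpecResidueField t).appLE ⊤ (f.fiberToSpecResidueField t ⁻¹ᵁ ⊤) le_rfl).hom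
        ((Scheme.ΓSpecIso (S.residueField t)).inv.hom c) • st
    rw [← (f.fiberToSpecResidueField t).app_eq_appLE]
  rw [hx]
  exact Submodule.smul_mem _ _ (Submodule.subset_span ⟨s₁, rfl⟩)

/-- One section nonvanishing on every fibre: `T⁰` is exact on every affine open. -/
theorem preservesEpi_of_fibres {E : X.Modules} (hE : PicF.IsInvertible E) (s : Coh.structureModule X ⟶ E)
    (hne : ∀ t : S, ∃ z, f z = t ∧ z ∈ CohB1.genLocus E s) (hr : ∀ t : S, CohIII.fiberRank f E 0 t ≤ 1)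
    {V : S.Opens} (hV : IsAffineOpen V) (m : W7Cech.ModelNN f E hV) :
    (CohIII.TFun m.L 0).PreservesEpimorphisms := by
  have hq : Coh.IsQCoh E := TMul.isQCoh_of_isInvertible hE
  have hfl : FlatMod.IsFlatOver f E := W7Hull.isFlatOver_of_isInvertible f hE
  have hle : ∀ t : S, t ∈ V → f.fiberToSpecResidueField t ⁻¹ᵁ ⊤ ≤ f.fiberι t ⁻¹ᵁ (f ⁻¹ᵁ V) := fun t ht x _ => by
    change f (f.fiberι t x) ∈ V
    rw [← Scheme.Hom.comp_apply, Scheme.Hom.fiber_fac, Scheme.Hom.comp_apply, Scheme.fromSpecResidueField_apply]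
    exact ht
  rw [FlatCx.preservesEpi_iff_flat_opc m.L 0 (W7Cech.flatX m.L m.hL) (W7Cech.up_prev_next 0)]
  haveI : ∀ i, Module.FinitePresentation Γ(S, V) (m.L.X i) := W7Cech.finitePresentationX m.L m.hL
  haveI : Module.FinitePresentation Γ(S, V) (FlatCx.Opc m.L 0 ((ComplexShape.up ℤ).next 0)) :=
    Module.finitePresentation_of_surjective (LinearMap.range (m.L.d 0 _).hom).mkQ (Submodule.mkQ_surjective _) (by
      haveI := (m.hL 0).1
      rw [Submodule.ker_mkQ, LinearMap.range_eq_map]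
      exact Module.Finite.fg_top.map _)
  haveI := Module.freeLocus_eq_univ_iff.1 (Set.eq_univ_of_forall fun x => by
    let z := hV.fromSpec x
    have hz : z ∈ V := W7Cech.fromSpec_mem hV x
    rw [show x = hV.primeIdealOf ⟨z, hz⟩ from
      hV.fromSpec.isOpenEmbedding.injective (hV.fromSpec_primeIdealOf ⟨z, hz⟩).symm]
    exact (W7Cech.spanAt_iff f E hq hfl hV m z hz (hle z hz)).1
      (spanAt_and_fiberRank f hE s hne hr z V hz (hle z hz)).1)
  infer_instance

/-- One section nonvanishing on every fibre: the direct image is invertible. -/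
theorem isFinLocFreeOfRank_one_push {E : X.Modules} (hE : PicF.IsInvertible E) (s : Coh.structureModule X ⟶ E)
    (hne : ∀ t : S, ∃ z, f z = t ∧ z ∈ CohB1.genLocus E s) (hr : ∀ t : S, CohIII.fiberRank f E 0 t ≤ 1) :
    FlatMod.IsFinLocFreeOfRank 1 ((Coh.push f).obj E) := by
  have hq : Coh.IsQCoh E := TMul.isQCoh_of_isInvertible hE
  have hF : CohB1.IsFP E := W7Hull.isFP_of_isInvertible hE
  have hfl : FlatMod.IsFlatOver f E := W7Hull.isFlatOver_of_isInvertible f hE
  intro y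
  obtain ⟨U, hy, -, ⟨e⟩⟩ := W7Cech.locFree_of_good_nn f hq hF hfl 0 ⊤ (fun V hV _ m =>
    W7Cech.good_of_exact m.L m.hL _ ((W7Cech.T_epi_iff_mono_succ m.L (W7Cech.flatX m.L m.hL) (-1)).1
      (W7Cech.isZero_T_of_isZero_homology_all m.L (m.hneg (-1) (by omega))).2)
      (preservesEpi_of_fibres f hE s hne hr hV m)) y trivial
  refine ⟨U, hy, ?_⟩
  have h1 := (spanAt_and_fiberRank f hE s hne hr y ⊤ trivial fun _ _ => trivial).2.1
  rw [← h1]
  exact ⟨(Scheme.Modules.restrictFunctor U.ι).mapIso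
    (((Coh.push f).rightDerivedZeroIsoSelf).app E).symm ≪≫ e⟩

variable [IsAffine S]

/-- The sections of `E` are the multiples of `s`. -/
theorem exists_smul_of_fibres {E : X.Modules} (hE : PicF.IsInvertible E) (s : Coh.structureModule X ⟶ E)
    (hne : ∀ t : S, ∃ z, f z = t ∧ z ∈ CohB1.genLocus E s) (hr : ∀ t : S, CohIII.fiberRank f E 0 t ≤ 1)
    (σ : Coh.structureModule X ⟶ E) : ∃ c : Γ(X, ⊤), TMul.val σ ⊤ = c • TMul.val s ⊤ := by
  have hq : Coh.IsQCoh E := TMul.isQCoh_of_isInvertible hE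
  have hF : CohB1.IsFP E := W7Hull.isFP_of_isInvertible hE
  have hfl : FlatMod.IsFlatOver f E := W7Hull.isFlatOver_of_isInvertible f hE
  let U : S.Opens := ⊤
  have hU : IsAffineOpen U := isAffineOpen_top S
  let s₁ : Γ(E, f ⁻¹ᵁ U) := TMul.val s (f ⁻¹ᵁ U)
  have hle : ∀ t : S, f.fiberToSpecResidueField t ⁻¹ᵁ ⊤ ≤ f.fiberι t ⁻¹ᵁ (f ⁻¹ᵁ U) := fun t z _ => trivial
  obtain ⟨m⟩ := W7Cech.nonempty_ModelNN f hq hF hfl hU
  have hm : (CohIII.TFun m.L ((0 : ℕ) : ℤ)).PreservesMonomorphisms :=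
    (W7Cech.T_epi_iff_mono_succ m.L (W7Cech.flatX m.L m.hL) (-1)).1
      (W7Cech.isZero_T_of_isZero_homology_all m.L (m.hneg (-1) (by omega))).2
  obtain ⟨hflat, hfp, hrank⟩ := W7Cech.good_of_exact m.L m.hL _ hm (preservesEpi_of_fibres f hE s hne hr hU m)
  obtain ⟨e⟩ := m.hR 0
  let i := ((Coh.push f).rightDerivedZeroIsoSelf).app E
  let e₀ : Γ((Coh.push f).obj E, U) ≃ₗ[Γ(S, U)] Γ((Coh.Rpush f 0).obj E, U) :=
    LinearEquiv.ofBijective
      { toFun := fun x => i.inv.app U x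
        map_add' := fun a b => map_add (i.inv.app U).hom a b
        map_smul' := fun a b => TMul.app_smul i.inv a b }
      (ConcreteCategory.bijective_of_isIso (i.inv.app U))
  let eR := e₀.trans e
  let R := Γ((Coh.push f).obj E, U)
  haveI := hflat
  haveI := hfp
  haveI : Module.Flat Γ(S, U) R := Module.Flat.of_linearEquiv eR
  haveI : Module.FinitePresentation Γ(S, U) R := Module.FinitePresentation.of_equiv eR.symm
  have htop := span_singleton_eq_top_of_rank_le_one (A := Γ(S, U)) R (fun p => by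
      rw [Module.rankAtStalk_eq_of_equiv eR, ← hrank p, ← m.hrk 0 p]
      exact hr _) (show R from s₁) (fun p r a e' hrp h => by
      intro hap
      let t := hU.fromSpec p
      have hp : p = hU.primeIdealOf ⟨t, trivial⟩ :=
        hU.fromSpec.isOpenEmbedding.injective (hU.fromSpec_primeIdealOf ⟨t, trivial⟩).symm
      have hb : ∀ b : Γ(S, U), b ∉ p.asIdeal ↔ t ∈ S.basicOpen b := fun b => by
        change p ∈ PrimeSpectrum.basicOpen b ↔ p ∈ hU.fromSpec ⁻¹ᵁ S.basicOpen b
        rw [hU.fromSpec_preimage_basicOpen]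
      have hv : ∀ b : Γ(S, U), S.evaluation U t trivial b = 0 ↔ b ∈ p.asIdeal := fun b => by
        rw [Scheme.evaluation_eq_zero_iff_notMem_basicOpen, ← hb, not_not]
      let V' := f.fiberToSpecResidueField t ⁻¹ᵁ ⊤
      have hev : ∀ b : Γ(S, U), (f.fiberι t).appLE (f ⁻¹ᵁ U) V' (hle t) ((f.app U).hom b) =
          (f.fiberToSpecResidueField t).appLE ⊤ V' le_rfl
            ((Scheme.ΓSpecIso (S.residueField t)).inv.hom (S.evaluation U t trivial b)) := fun b => by
        have e' : (⊤ : (Spec (S.residueField t)).Opens) ≤ S.fromSpecResidueField t ⁻¹ᵁ U := fun _ _ => trivial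
        rw [← W7Cech.appLE_fromSpecResidueField hU t trivial e']
        simp only [CommRingCat.hom_comp, RingHom.comp_apply]
        rw [show (Scheme.ΓSpecIso (S.residueField t)).inv.hom ((Scheme.ΓSpecIso (S.residueField t)).hom.hom
          (((S.fromSpecResidueField t).appLE U ⊤ e').hom b)) = ((S.fromSpecResidueField t).appLE U ⊤ e').hom b from
          (Scheme.ΓSpecIso (S.residueField t)).hom_inv_id_apply _]
        have key : ∀ (φ ψ : f.fiber t ⟶ S), φ = ψ → ∀ h₁ h₂, (φ.appLE U V' h₁).hom b = (ψ.appLE U V' h₂).hom b := by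
          rintro φ ψ rfl _ _; rfl
        have k := key _ _ (f.fiber_fac t) (fun _ _ => trivial) (fun _ _ => trivial)
        rw [Scheme.Hom.comp_appLE, ← Scheme.Hom.appLE_comp_appLE (f.fiberToSpecResidueField t)
          (S.fromSpecResidueField t) U ⊤ V' e' le_rfl] at k
        exact k
      have h' := congrArg (ModDesc.pullSectLE (f.fiberι t) E (f ⁻¹ᵁ U) V' (hle t))
        (show (f.app U).hom r • s₁ = (f.app U).hom a • (show Γ(E, f ⁻¹ᵁ U) from e') from h)
      rw [ModDesc.pullSectLE_smul, ModDesc.pullSectLE_smul, hev, hev, (hv a).2 hap, map_zero, map_zero, zero_smul] at h'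
      have hu : IsUnit ((f.fiberToSpecResidueField t).appLE ⊤ V' le_rfl
          ((Scheme.ΓSpecIso (S.residueField t)).inv.hom (S.evaluation U t trivial r))) :=
        ((isUnit_iff_ne_zero.2 (fun h0 => hrp ((hv r).1 h0))).map _).map _
      exact (spanAt_and_fiberRank f hE s hne hr t U trivial (hle t)).2.2 (hu.smul_eq_zero.1 h'))
  obtain ⟨c, hc⟩ := Submodule.mem_span_singleton.1 (htop ▸ Submodule.mem_top :
    (show R from TMul.val σ (f ⁻¹ᵁ U)) ∈ Submodule.span Γ(S, U) {(show R from s₁)})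
  exact ⟨(f.app U).hom c, hc.symm⟩

end Groth.Agent.AbelMap
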