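import Groth.Agent.AbelMap.Degree
import Groth.Agent.AbelMap.GenSec
import Groth.Agent.SchDescent.Glue

/-!
The Abel map is a monomorphism.
-/

set_option autoImplicit false
set_option backward.isDefEq.respectTransparency false
set_option backward.isDefEq.respectTransparency.types false
set_option linter.style.haveILetI false
set_option maxHeartbeats 1000000

universe u

open CategoryTheory CategoryTheory.Limits AlgebraicGeometry TopologicalSpace Opposite

noncomputable section

namespace Groth.Agent.AbelMap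

variable {C S : Scheme.{u}} (f : C ⟶ S) [IsProper f] [Smooth f] [GeometricallyConnected f]
  (hdim : ∀ s : S, topologicalKrullDim ↥(f.fiber s) = 1)
  (hg : ∀ s : S, 1 ≤ CohIII.fiberRank f (Coh.structureModule C) 1 s)
  (LΔ : (PicF.XT f (Over.mk f)).Modules) (hLΔ : PicF.IsInvertible LΔ)
  (hΔ : ClSub.IsInverseOf LΔ (ClSub.idealMod (pullback.diagonal f).ker))

include hdim in
/-- A point misses some point of each fibre. -/
theorem exists_notMem_graph {T : Over S} (x : T ⟶ Over.mk f) (t : T.left) :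
    ∃ z : ↥(PicF.XT f T), PicF.XTproj f T z = t ∧ z ∉ Set.range (graph f x) := by
  by_contra! h
  let p := PicF.XTproj f T
  haveI : Subsingleton ↥(p.fiber t) := by
    refine ⟨fun a b => (p.fiberι t).isEmbedding.injective ?_⟩
    have hmem : ∀ c : ↥(p.fiber t), p (p.fiberι t c) = t := fun c =>
      (p.range_fiberι t).le (Set.mem_range_self c)
    obtain ⟨u, hu⟩ := h _ (hmem a)
    obtain ⟨v, hv⟩ := h _ (hmem b)
    have hpu : ∀ w, p (graph f x w) = w := fun w =>
      congr($(pullback.lift_snd x.left (𝟙 T.left) (by rw [Category.id_comp]; exact Over.w x)) w)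
    have hu' : u = t := by rw [← hpu u, hu, hmem a]
    have hv' : v = t := by rw [← hpu v, hv, hmem b]
    rw [← hu, ← hv, hu', hv']
  have h1 : topologicalKrullDim ↥(p.fiber t) = 1 :=
    (DimField.dim_fiber_eq_of_isPullback (IsPullback.of_hasPullback f T.hom) t).trans (hdim _)
  rcases isEmpty_or_nonempty ↥(p.fiber t) with hE | hE
  · haveI : IsEmpty (IrreducibleCloseds ↥(p.fiber t)) := ⟨fun Z => isEmptyElim Z.isIrreducible.nonempty.some⟩
    rw [topologicalKrullDim, Order.krullDim_eq_bot] at h1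
    simp at h1
  · have h0 := topologicalKrullDim_zero_of_discreteTopology ↥(p.fiber t)
    rw [h1] at h0
    exact absurd h0 (by norm_num)

include hdim hg hLΔ hΔ in
/-- Points over an affine scheme with isomorphic modules are equal. -/
theorem eq_of_iso {T : Over S} [IsAffine T.left] (x y : T ⟶ Over.mk f)
    (i : (Scheme.Modules.pullback (PicF.XTmap f x)).obj LΔ ≅ (Scheme.Modules.pullback (PicF.XTmap f y)).obj LΔ) :
    x = y := by
  obtain ⟨ε⟩ := hΔ
  have hI := (Groth.Agent.S8914.result _).1 (Intersect.isInvertible_inverse hLΔ ⟨ε⟩)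
  obtain ⟨sΔ, hsΔ⟩ := exists_section hI hLΔ ⟨ε⟩
  let p := PicF.XTproj f T
  haveI : IsProper p := MorphismProperty.pullback_snd _ _ ‹IsProper f›
  haveI : Flat p := MorphismProperty.pullback_snd _ _ (inferInstance : Flat f)
  haveI : LocallyOfFinitePresentation p :=
    MorphismProperty.pullback_snd _ _ (inferInstance : LocallyOfFinitePresentation f)
  let M := (Scheme.Modules.pullback (PicF.XTmap f x)).obj LΔ
  let M' := (Scheme.Modules.pullback (PicF.XTmap f y)).obj LΔ
  have hM : PicF.IsInvertible M := PicLoc.isInvertible_pullback _ hLΔ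
  have hM' : PicF.IsInvertible M' := PicLoc.isInvertible_pullback _ hLΔ
  let s : Coh.structureModule _ ⟶ M := pullSec (PicF.XTmap f x) sΔ
  let s' : Coh.structureModule _ ⟶ M := pullSec (PicF.XTmap f y) sΔ ≫ i.inv
  have hs : PicF2.zeroScheme M s = (graph f x).ker := by
    rw [zeroScheme_pullSec _ hLΔ, hsΔ, ker_graph]
  have hs' : PicF2.zeroScheme M s' = (graph f y).ker := by
    rw [show s' = pullSec (PicF.XTmap f y) sΔ ≫ i.symm.hom from rfl,
      zeroScheme_comp_iso hM' hM _ i.symm, zeroScheme_pullSec _ hLΔ, hsΔ, ker_graph]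
  haveI := isClosedImmersion_graph f x
  haveI := isClosedImmersion_graph f y
  have hgen : ∀ (z' : T ⟶ Over.mk f) (σ : Coh.structureModule _ ⟶ M),
      PicF2.zeroScheme M σ = (graph f z').ker → ∀ t : T.left, ∃ z, p z = t ∧ z ∈ CohB1.genLocus M σ := by
    intro z' σ hσ t
    haveI := isClosedImmersion_graph f z'
    obtain ⟨z, hzt, hz⟩ := exists_notMem_graph f hdim z' t
    refine ⟨z, hzt, mem_genLocus_of_notMem hM σ ?_⟩
    rw [hσ]
    intro hmem
    refine hz ?_
    have := (graph f z').support_ker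
    have h2 : z ∈ closure (Set.range (graph f z')) := this ▸ hmem
    rwa [(graph f z').isClosedEmbedding.isClosed_range.closure_eq] at h2
  have hr : ∀ t, CohIII.fiberRank p M 0 t ≤ 1 := fun t =>
    fiberRank_le_one f hdim hg LΔ hLΔ ⟨ε⟩ x t
  obtain ⟨c, hc⟩ := exists_smul_of_fibres p hM s (hgen x s hs) hr s'
  obtain ⟨c', hc'⟩ := exists_smul_of_fibres p hM s' (hgen y s' hs') hr s
  have hker : (graph f x).ker = (graph f y).ker := by
    rw [← hs, ← hs']
    exact le_antisymm (zeroScheme_le_of_smul hM s' s c' hc') (zeroScheme_le_of_smul hM s s' c hc)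
  let a := IsClosedImmersion.lift (graph f x) (graph f y) hker.le
  have ha : a ≫ graph f x = graph f y := IsClosedImmersion.lift_fac _ _ _
  have hsnd : ∀ z' : T ⟶ Over.mk f, graph f z' ≫ pullback.snd f T.hom = 𝟙 _ := fun z' => pullback.lift_snd _ _ _
  have hfst : ∀ z' : T ⟶ Over.mk f, graph f z' ≫ pullback.fst f T.hom = z'.left := fun z' => pullback.lift_fst _ _ _
  have ha1 : a = 𝟙 _ := by
    have h := congrArg (· ≫ pullback.snd f T.hom) ha
    simp only [Category.assoc, hsnd, Category.comp_id] at h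
    exact h
  ext1
  rw [← hfst x, ← hfst y, ← ha, ha1, Category.id_comp]

omit [IsProper f] [Smooth f] [GeometricallyConnected f] in
theorem nonempty_comp_iso {T T' T'' : Over S} (g₁ : T'' ⟶ T') (g₀ : T' ⟶ T) (z : T ⟶ Over.mk f) :
    Nonempty ((Scheme.Modules.pullback (PicF.XTmap f (g₁ ≫ g₀ ≫ z))).obj LΔ ≅
      (Scheme.Modules.pullback (PicF.XTmap f g₁)).obj ((Scheme.Modules.pullback (PicF.XTmap f g₀)).obj
        ((Scheme.Modules.pullback (PicF.XTmap f z)).obj LΔ))) := by
  rw [XTmap_comp, XTmap_comp]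
  exact ⟨((Scheme.Modules.pullbackComp _ _).app LΔ).symm ≪≫
    (Scheme.Modules.pullback (PicF.XTmap f g₁)).mapIso ((Scheme.Modules.pullbackComp _ _).app LΔ).symm⟩

include hdim hg hLΔ hΔ in
/-- The Abel map is a monomorphism. -/
theorem mono_abel (P : Over S) (φ : ∀ T : Over S, PicF.Cl (PicF.XT f T) → (T ⟶ P))
    (hP : AbDual.IsRelPicK Scheme.fppfPrecoverage f P φ) : Mono (φ (Over.mk f) (PicF.cl LΔ)).left := by
  refine ⟨fun {W} a b h => ?_⟩
  let A := φ (Over.mk f) (PicF.cl LΔ)
  have hw : b ≫ f = a ≫ f := by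
    have h1 := congrArg (· ≫ P.hom) h
    have hA : (φ (Over.mk f) (PicF.cl LΔ)).left ≫ P.hom = f := Over.w A
    simp only [Category.assoc, hA] at h1
    exact h1.symm
  let T : Over S := Over.mk (a ≫ f)
  let x : T ⟶ Over.mk f := Over.homMk a
  let y : T ⟶ Over.mk f := Over.homMk b hw
  have hxy : x ≫ A = y ≫ A := Over.OverMorphism.ext h
  have e1 := hP.natural (Over.mk f) T x (PicF.cl LΔ) ⟨LΔ, rfl, hLΔ⟩
  have e2 := hP.natural (Over.mk f) T y (PicF.cl LΔ) ⟨LΔ, rfl, hLΔ⟩
  obtain ⟨R, hR, hRc⟩ := hP.locallyInjective T _ _ ⟨_, rfl, PicLoc.isInvertible_pullback _ hLΔ⟩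
    ⟨_, rfl, PicLoc.isInvertible_pullback _ hLΔ⟩ (e1.trans (hxy.trans e2.symm))
  obtain ⟨ι, U, v, rfl⟩ := R.exists_eq_ofArrows
  obtain ⟨hj, hprop⟩ := (Scheme.ofArrows_mem_precoverage_iff _).1 hR
  choose k₀ x₀ hx₀ using hj
  refine SchDescent.hom_ext_cover (g := fun w : W => v (k₀ w))
    (Scheme.fppfPrecoverage_le_fpqcPrecoverage _ ((Scheme.ofArrows_mem_precoverage_iff _).2
      ⟨fun w => ⟨w, x₀ w, hx₀ w⟩, fun w => hprop (k₀ w)⟩)) fun w => ?_
  let k := k₀ w
  refine Scheme.Cover.hom_ext (U k).affineCover _ _ fun j => ?_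
  let g₀ := AbDual.ovrHom T (v k)
  let g₁ := AbDual.ovrHom (AbDual.ovr T (v k)) ((U k).affineCover.f j)
  obtain ⟨e⟩ := PicFam.nonempty_iso_of_cl_eq (hRc (v k) (Presieve.ofArrows.mk k))
  haveI : IsAffine (AbDual.ovr (AbDual.ovr T (v k)) ((U k).affineCover.f j)).left :=
    inferInstanceAs (IsAffine ((U k).affineCover.X j))
  obtain ⟨cx⟩ := nonempty_comp_iso f LΔ g₁ g₀ x
  obtain ⟨cy⟩ := nonempty_comp_iso f LΔ g₁ g₀ y
  have key := eq_of_iso f hdim hg LΔ hLΔ hΔ (g₁ ≫ g₀ ≫ x) (g₁ ≫ g₀ ≫ y)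
    (cx ≪≫ (Scheme.Modules.pullback (PicF.XTmap f g₁)).mapIso e ≪≫ cy.symm)
  have h2 := congrArg CommaMorphism.left key
  simp only [Over.comp_left] at h2
  exact h2

end Groth.Agent.AbelMap
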