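import Groth.Agent.AbelMap.Section
import Groth.Agent.AlgEquivCurve.Diag
import Groth.Agent.PicSmooth.Degree
import Groth.Agent.CurveRR.Pencil
import Groth.Agent.CurveRR.Cartier
import Groth.Agent.CurveRR.RatPoint
import Groth.Agent.CurveFam.Omega

/-!
The family `O(Δ)` has one section on each fibre.
-/

set_option autoImplicit false
set_option backward.isDefEq.respectTransparency false
set_option backward.isDefEq.respectTransparency.types false
set_option linter.style.haveILetI false
set_option maxHeartbeats 1000000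

universe u

open CategoryTheory CategoryTheory.Limits AlgebraicGeometry TopologicalSpace Opposite

noncomputable section

namespace Groth.Agent.AbelMap

/-- `h⁰(O(P)) ≤ 1` in positive genus. -/
theorem h0_le_one {Ω : Type u} [Field Ω] [IsAlgClosed Ω] {X : Scheme.{u}} [X.Over (Spec (CommRingCat.of Ω))]
    [IsProper (X ↘ Spec (CommRingCat.of Ω))] [Smooth (X ↘ Spec (CommRingCat.of Ω))] [IsIntegral X]
    (hdim : topologicalKrullDim X = 1) (hg : 1 ≤ Curv2.genus Ω X) {P : X} (hP : IsClosed ({P} : Set X))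
    {M : X.Modules} (hM : PicF.IsInvertible M)
    (he : ClSub.IsInverseOf M (ClSub.idealMod (Scheme.IdealSheafData.vanishingIdeal ⟨{P}, hP⟩)))
    (s : Spec (CommRingCat.of Ω) ⟶ X) (hs : s ≫ (X ↘ Spec (CommRingCat.of Ω)) = 𝟙 _) (hsP : ∀ p, s p = P) :
    CurveRR.h Ω M 0 ≤ 1 := by
  haveI := CurveRR.isNoetherian_of_proper Ω X
  by_contra hlt
  have h2 := CurveRR.two_le_deg Ω hdim.le hg hM (by omega)
  have hI := CurveRR.isInvertible_pointIdeal hdim.le hP (CurveRR.genericPoint_ne_of_closed (k := Ω) hdim hP)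
    (SmLocalST.isRegularLocalRing_stalk_of_smooth_field (X ↘ Spec (CommRingCat.of Ω)) P)
  have h1 := CurveRR.deg_tensor_cartier (k := Ω) hdim.le ((Groth.Agent.S8914.result _).1 hI) hM he
    (CurveRR.isFinLocFreeOfRank_one (TMul.isInvertible_structureModule (X := X)))
  rw [CurveRR.deg_structure, CurveRR.h0_quotMod_ratPoint hP s hs hsP, Curv2.deg,
    CurveRR.euler_eq_of_iso (TMul.leftUnitIso M)] at h1
  rw [Curv2.deg] at h2
  push_cast at h1
  omega

/-- Betti numbers over a field. -/
theorem betti_field {k : Type u} [Field k] {X : Scheme.{u}} [X.Over (Spec (CommRingCat.of k))]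
    [IsProper (X ↘ Spec (CommRingCat.of k))] {N : X.Modules} (hN : Coh.IsQCoh N)
    (y : Spec (CommRingCat.of k)) (i : ℕ) :
    PerfAux.betti (X ↘ Spec (CommRingCat.of k)) N y i = CurveRR.h k N i := by
  let p := X ↘ Spec (CommRingCat.of k)
  let κ := (Spec (CommRingCat.of k)).residueField y
  letI : (p.fiber y).Over (Spec (CommRingCat.of ↥κ)) := ⟨p.fiberToSpecResidueField y⟩
  let α : CommRingCat.of k ⟶ κ := Spec.preimage ((Spec (CommRingCat.of k)).fromSpecResidueField y)
  have hα : Spec.map α = (Spec (CommRingCat.of k)).fromSpecResidueField y := Spec.map_preimage _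
  letI : Algebra k κ := α.hom.toAlgebra
  have sq : IsPullback (p.fiberι y) (p.fiber y ↘ Spec (CommRingCat.of ↥κ)) (X ↘ Spec (CommRingCat.of k))
      (Spec.map (CommRingCat.ofHom (algebraMap k κ))) := by
    rw [show CommRingCat.ofHom (algebraMap k κ) = α from rfl, hα]
    exact IsPullback.of_hasPullback p _
  haveI : CompactSpace X := QuasiCompact.compactSpace_of_compactSpace (X ↘ Spec (CommRingCat.of k))
  haveI : X.IsSeparated := by
    constructor
    rw [← terminal.comp_from (X ↘ Spec (CommRingCat.of k))]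
    infer_instance
  obtain ⟨e⟩ := W7Cech.nonempty_hh_flatBC k κ (p.fiberι y) sq N hN i
  refine e.symm.finrank_eq.trans ?_
  rw [Module.finrank_baseChange]

/-- Every point lies under a geometric point. -/
theorem exists_geomPt (Z : Scheme.{u}) (t : Z) : ∃ (Ω : Type u) (_ : Field Ω) (_ : IsAlgClosed Ω)
    (σ : Spec (CommRingCat.of Ω) ⟶ Z) (y : Spec (CommRingCat.of Ω)), σ y = t := by
  have key : ∀ (K : Type u) [Field K] (φ : Spec (CommRingCat.of K) ⟶ Z), (∀ z, φ z = t) →
      ∃ (Ω : Type u) (_ : Field Ω) (_ : IsAlgClosed Ω)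
        (σ : Spec (CommRingCat.of Ω) ⟶ Z) (y : Spec (CommRingCat.of Ω)), σ y = t := fun K _ φ h =>
    ⟨AlgebraicClosure K, inferInstance, inferInstance,
      Spec.map (CommRingCat.ofHom (algebraMap K (AlgebraicClosure K))) ≫ φ, IsLocalRing.closedPoint _, h _⟩
  exact key (Z.residueField t) (Z.fromSpecResidueField t) fun z => Scheme.fromSpecResidueField_apply _ _

variable {C S : Scheme.{u}} (f : C ⟶ S)

lemma XTmap_fst {T T' : Over S} (g : T' ⟶ T) :
    PicF.XTmap f g ≫ pullback.fst f T.hom = pullback.fst f T'.hom := by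
  unfold PicF.XTmap
  exact (pullback.lift_fst _ _ _).trans (Category.comp_id _)

lemma XTmap_snd {T T' : Over S} (g : T' ⟶ T) :
    PicF.XTmap f g ≫ pullback.snd f T.hom = pullback.snd f T'.hom ≫ g.left := by
  unfold PicF.XTmap
  exact pullback.lift_snd _ _ _

lemma XTmap_comp {T T' T'' : Over S} (g : T' ⟶ T) (h : T'' ⟶ T') :
    PicF.XTmap f (h ≫ g) = PicF.XTmap f h ≫ PicF.XTmap f g := by
  refine pullback.hom_ext ?_ ?_
  · rw [Category.assoc, XTmap_fst, XTmap_fst, XTmap_fst]
  · rw [Category.assoc, XTmap_snd, XTmap_snd, reassoc_of% (XTmap_snd f h), Over.comp_left]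

/-- The graph of a point. -/
def graph {T : Over S} (x : T ⟶ Over.mk f) : T.left ⟶ PicF.XT f T :=
  pullback.lift x.left (𝟙 _) (by rw [Category.id_comp]; exact Over.w x)

lemma isPullback_graph {T : Over S} (x : T ⟶ Over.mk f) :
    IsPullback x.left (graph f x) (pullback.diagonal f) (PicF.XTmap f x) := by
  have hw : x.left ≫ pullback.diagonal f = graph f x ≫ PicF.XTmap f x := by
    refine pullback.hom_ext ?_ ?_
    · simp only [Category.assoc, pullback.diagonal_fst, Category.comp_id, graph]
      erw [XTmap_fst, pullback.lift_fst]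
    · simp only [Category.assoc, pullback.diagonal_snd, Category.comp_id, graph]
      erw [XTmap_snd]
      erw [pullback.lift_snd_assoc, Category.id_comp]
  have hf1 : ∀ c : PullbackCone (pullback.diagonal f) (PicF.XTmap f x),
      c.fst = c.snd ≫ pullback.fst f T.hom := fun c => by
    rw [← XTmap_fst f x, ← Category.assoc, ← c.condition, Category.assoc]
    erw [pullback.diagonal_fst, Category.comp_id]
  have hf2 : ∀ c : PullbackCone (pullback.diagonal f) (PicF.XTmap f x),
      c.fst = (c.snd ≫ pullback.snd f T.hom) ≫ x.left := fun c => by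
    rw [Category.assoc, ← XTmap_snd f x, ← Category.assoc, ← c.condition, Category.assoc]
    erw [pullback.diagonal_snd, Category.comp_id]
  refine IsPullback.of_isLimit' ⟨hw⟩ (PullbackCone.IsLimit.mk hw (fun c => c.snd ≫ pullback.snd f T.hom)
    (fun c => (hf2 c).symm) (fun c => ?_) fun c m _ h2 => ?_)
  · refine pullback.hom_ext ?_ ?_
    · rw [Category.assoc, graph, pullback.lift_fst, ← hf2, hf1]
    · rw [Category.assoc, graph, pullback.lift_snd, Category.comp_id]
  · rw [← h2, Category.assoc, graph, pullback.lift_snd, Category.comp_id]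

theorem ker_graph [IsSeparated f] {T : Over S} (x : T ⟶ Over.mk f) :
    (graph f x).ker = (pullback.diagonal f).ker.comap (PicF.XTmap f x) :=
  AlmostBlow.ker_of_isPullback (isPullback_graph f x)

theorem isClosedImmersion_graph [IsSeparated f] {T : Over S} (x : T ⟶ Over.mk f) :
    IsClosedImmersion (graph f x) :=
  MorphismProperty.of_isPullback (isPullback_graph f x) (inferInstance : IsClosedImmersion (pullback.diagonal f))

variable [IsProper f] [Smooth f] [GeometricallyConnected f]

/-- One section on the fibre below a geometric point. -/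
theorem fiberRank_le_one_aux (hdim : ∀ s : S, topologicalKrullDim ↥(f.fiber s) = 1)
    (hg : ∀ s : S, 1 ≤ CohIII.fiberRank f (Coh.structureModule C) 1 s)
    (LΔ : (PicF.XT f (Over.mk f)).Modules) (hLΔ : PicF.IsInvertible LΔ)
    (hΔ : ClSub.IsInverseOf LΔ (ClSub.idealMod (pullback.diagonal f).ker))
    {T : Over S} (x : T ⟶ Over.mk f) (Ω : Type u) [Field Ω] [IsAlgClosed Ω] (σ : Spec (CommRingCat.of Ω) ⟶ T.left)
    (y : Spec (CommRingCat.of Ω)) (t : T.left) (hσ : σ y = t) :
    CohIII.fiberRank (PicF.XTproj f T) ((Scheme.Modules.pullback (PicF.XTmap f x)).obj LΔ) 0 t ≤ 1 := by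
  let g := AbDual.ovrHom T σ
  let T' := AbDual.ovr T σ
  let x' := g ≫ x
  let X := PicF.XT f T'
  letI : X.Over (Spec (CommRingCat.of Ω)) := ⟨PicF.XTproj f T'⟩
  have hp : IsProper (PicF.XTproj f T') := MorphismProperty.pullback_snd _ _ ‹IsProper f›
  haveI : IsProper (X ↘ Spec (CommRingCat.of Ω)) := hp
  haveI : Smooth (X ↘ Spec (CommRingCat.of Ω)) :=
    (MorphismProperty.pullback_snd _ _ ‹Smooth f› : Smooth (PicF.XTproj f T'))
  haveI : GeometricallyConnected (X ↘ Spec (CommRingCat.of Ω)) :=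
    (MorphismProperty.pullback_snd _ _ ‹GeometricallyConnected f› : GeometricallyConnected (PicF.XTproj f T'))
  have sq0 : IsPullback (pullback.fst f T'.hom) (X ↘ Spec (CommRingCat.of Ω)) f T'.hom :=
    IsPullback.of_hasPullback f T'.hom
  have hXdim : topologicalKrullDim X = 1 := by
    haveI : IsIso ((Spec (CommRingCat.of Ω)).fromSpecResidueField y) := AssTensor.isIso_fromSpecResidueField _ y
    haveI : IsIso ((X ↘ Spec (CommRingCat.of Ω)).fiberι y) :=
      inferInstanceAs (IsIso (pullback.fst _ ((Spec (CommRingCat.of Ω)).fromSpecResidueField y)))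
    rw [← IsHomeomorph.topologicalKrullDim_eq _ (Homeomorph.isHomeomorph (Scheme.homeoOfIso
      (asIso ((X ↘ Spec (CommRingCat.of Ω)).fiberι y)))),
      DimField.dim_fiber_eq_of_isPullback sq0 y]
    exact hdim _
  haveI : IsIntegral X := W7Slope.isIntegral_of_geomConn Ω hXdim
  have hgen : 1 ≤ Curv2.genus Ω X := by
    refine (hg (T'.hom y)).trans_eq ?_
    change PerfAux.betti f (Coh.structureModule C) (T'.hom y) 1 = CurveRR.h Ω (Coh.structureModule X) 1
    exact ((PicSmooth.betti_of_isPullback sq0 (Coh.structureModule C) (QC.isQCoh_unit C) y 1).symm.trans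
      (betti_field (QC.isQCoh_pullback _ (QC.isQCoh_unit C)) y 1)).trans
      (CurveRR.h_eq_of_iso (PicLoc.pullbackStructureIso (pullback.fst f T'.hom)) 1)
  let M := (Scheme.Modules.pullback (PicF.XTmap f x)).obj LΔ
  let M' := (Scheme.Modules.pullback (PicF.XTmap f x')).obj LΔ
  haveI : IsProper (PicF.XTproj f T) := MorphismProperty.pullback_snd _ _ ‹IsProper f›
  have h1 : CohIII.fiberRank (PicF.XTproj f T) M 0 t = CurveRR.h Ω M' 0 := by
    rw [PicFam.fiberRank_eq_betti]
    have h := PicSmooth.betti_of_isPullback (show IsPullback (PicF.XTmap f g) (PicF.XTproj f T')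
      (PicF.XTproj f T) g.left from PicFam.isPullback_XTmap f g) M
      (TMul.isQCoh_of_isInvertible (PicLoc.isInvertible_pullback _ hLΔ)) y 0
    rw [show g.left y = t from hσ] at h
    rw [← h]
    refine (betti_field (QC.isQCoh_pullback _ (TMul.isQCoh_of_isInvertible (PicLoc.isInvertible_pullback _ hLΔ))) y 0).trans ?_
    exact CurveRR.h_eq_of_iso ((Scheme.Modules.pullbackComp _ _).app LΔ ≪≫
      (Scheme.Modules.pullbackCongr (XTmap_comp f x g).symm).app LΔ) 0
  rw [h1]
  haveI := CurveRR.isNoetherian_of_proper Ω X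
  let s : Spec (CommRingCat.of Ω) ⟶ X := graph f x'
  have hs : s ≫ (X ↘ Spec (CommRingCat.of Ω)) = 𝟙 _ := pullback.lift_snd _ _ _
  haveI : IsClosedImmersion s := isClosedImmersion_graph f x'
  have hr : Set.range s = {s y} := Set.eq_singleton_iff_unique_mem.2 ⟨⟨y, rfl⟩, by
    rintro _ ⟨z, rfl⟩
    haveI : Subsingleton (Spec (CommRingCat.of Ω)) := inferInstanceAs (Subsingleton (PrimeSpectrum Ω))
    rw [Subsingleton.elim z y]⟩
  have hP : IsClosed ({s y} : Set X) := hr ▸ s.isClosedEmbedding.isClosed_range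
  have hker : (pullback.diagonal f).ker.comap (PicF.XTmap f x') =
      Scheme.IdealSheafData.vanishingIdeal ⟨{s y}, hP⟩ := by
    rw [← ker_graph f x', show (graph f x').ker = s.ker from rfl, Nakai.ker_eq_vanishingIdeal]
    refine congrArg _ (Closeds.ext ?_)
    rw [Scheme.Hom.support_ker]
    show closure (Set.range s) = _
    rw [hr, hP.closure_eq]
    rfl
  obtain ⟨e⟩ := hΔ
  have hI : PicF.IsInvertible (ClSub.idealMod (pullback.diagonal f).ker) := Intersect.isInvertible_inverse hLΔ ⟨e⟩
  have hJ := CurveRR.isInvertible_pointIdeal hXdim.le hP (CurveRR.genericPoint_ne_of_closed (k := Ω) hXdim hP)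
    (SmLocalST.isRegularLocalRing_stalk_of_smooth_field (X ↘ Spec (CommRingCat.of Ω)) (s y))
  obtain ⟨e'⟩ := Nakai.nonempty_pullback_idealMod (PicF.XTmap f x') ((Groth.Agent.S8914.result _).1 hI)
    (hker ▸ (Groth.Agent.S8914.result _).1 hJ)
  obtain ⟨a⟩ := TMul.nonempty_pullTensorIso (PicF.XTmap f x') LΔ (ClSub.idealMod (pullback.diagonal f).ker)
  refine h0_le_one hXdim hgen hP (PicLoc.isInvertible_pullback _ hLΔ) ⟨?_⟩ s hs fun p => ?_
  · exact PicGrp.tensorModIso (Iso.refl _) (e' ≪≫ eqToIso (congrArg ClSub.idealMod hker)).symm ≪≫ a ≪≫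
      (Scheme.Modules.pullback (PicF.XTmap f x')).mapIso e ≪≫ PicLoc.pullbackStructureIso _
  · haveI : Subsingleton (Spec (CommRingCat.of Ω)) := inferInstanceAs (Subsingleton (PrimeSpectrum Ω))
    rw [Subsingleton.elim p y]

/-- One section on each fibre. -/
theorem fiberRank_le_one (hdim : ∀ s : S, topologicalKrullDim ↥(f.fiber s) = 1)
    (hg : ∀ s : S, 1 ≤ CohIII.fiberRank f (Coh.structureModule C) 1 s)
    (LΔ : (PicF.XT f (Over.mk f)).Modules) (hLΔ : PicF.IsInvertible LΔ)
    (hΔ : ClSub.IsInverseOf LΔ (ClSub.idealMod (pullback.diagonal f).ker))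
    {T : Over S} (x : T ⟶ Over.mk f) (t : T.left) :
    CohIII.fiberRank (PicF.XTproj f T) ((Scheme.Modules.pullback (PicF.XTmap f x)).obj LΔ) 0 t ≤ 1 := by
  obtain ⟨Ω, _, _, σ, y, hy⟩ := exists_geomPt T.left t
  exact fiberRank_le_one_aux f hdim hg LΔ hLΔ hΔ x Ω σ y t hy

end Groth.Agent.AbelMap
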