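import Groth.Agent.AbelMap.Degree
import Groth.Agent.AbelMap.GenSec

/-!
`O(x)` for a section `x` of a family of curves of positive genus.
-/

set_option autoImplicit false
set_option backward.isDefEq.respectTransparency false
set_option backward.isDefEq.respectTransparency.types false
set_option linter.style.haveILetI false
set_option maxHeartbeats 1000000

universe u

open CategoryTheory CategoryTheory.Limits AlgebraicGeometry TopologicalSpace Opposite

noncomputable section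

namespace Groth.Agent.AbelMap

variable {C S : Scheme.{u}} (f : C ⟶ S) [IsProper f] [Smooth f] [GeometricallyConnected f]
  (hdim : ∀ s : S, topologicalKrullDim ↥(f.fiber s) = 1)
  (hg : ∀ s : S, 1 ≤ CohIII.fiberRank f (Coh.structureModule C) 1 s)
  {L : C.Modules} (hL : PicF.IsInvertible L) (x : S ⟶ C) (hx : x ≫ f = 𝟙 S)
  (hLx : ClSub.IsInverseOf L (ClSub.idealMod x.ker))

include hdim hg hL hx hLx in
theorem fiberRank_le_one_of_inverse_aux (t : S) (Ω : Type u) [Field Ω] [IsAlgClosed Ω]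
    (σ : Spec (CommRingCat.of Ω) ⟶ S) (y : Spec (CommRingCat.of Ω)) (hσ : σ y = t) :
    CohIII.fiberRank f L 0 t ≤ 1 := by
  let X := pullback f σ
  letI : X.Over (Spec (CommRingCat.of Ω)) := ⟨pullback.snd f σ⟩
  haveI : IsProper (X ↘ Spec (CommRingCat.of Ω)) :=
    (MorphismProperty.pullback_snd _ _ ‹IsProper f› : IsProper (pullback.snd f σ))
  haveI : Smooth (X ↘ Spec (CommRingCat.of Ω)) :=
    (MorphismProperty.pullback_snd _ _ ‹Smooth f› : Smooth (pullback.snd f σ))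
  haveI : GeometricallyConnected (X ↘ Spec (CommRingCat.of Ω)) :=
    (MorphismProperty.pullback_snd _ _ ‹GeometricallyConnected f› : GeometricallyConnected (pullback.snd f σ))
  have sq : IsPullback (pullback.fst f σ) (X ↘ Spec (CommRingCat.of Ω)) f σ := IsPullback.of_hasPullback f σ
  have hXdim : topologicalKrullDim X = 1 := by
    haveI : IsIso ((Spec (CommRingCat.of Ω)).fromSpecResidueField y) := AssTensor.isIso_fromSpecResidueField _ y
    haveI : IsIso ((X ↘ Spec (CommRingCat.of Ω)).fiberι y) :=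
      inferInstanceAs (IsIso (pullback.fst _ ((Spec (CommRingCat.of Ω)).fromSpecResidueField y)))
    rw [← IsHomeomorph.topologicalKrullDim_eq _ (Homeomorph.isHomeomorph (Scheme.homeoOfIso
      (asIso ((X ↘ Spec (CommRingCat.of Ω)).fiberι y)))),
      DimField.dim_fiber_eq_of_isPullback sq y]
    exact hdim _
  haveI : IsIntegral X := W7Slope.isIntegral_of_geomConn Ω hXdim
  haveI := CurveRR.isNoetherian_of_proper Ω X
  have hgen : 1 ≤ Curv2.genus Ω X :=
    (hg (σ y)).trans_eq (((PicSmooth.betti_of_isPullback sq (Coh.structureModule C) (QC.isQCoh_unit C) y 1).symm.trans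
      (betti_field (QC.isQCoh_pullback _ (QC.isQCoh_unit C)) y 1)).trans
      (CurveRR.h_eq_of_iso (PicLoc.pullbackStructureIso (pullback.fst f σ)) 1))
  let M := (Scheme.Modules.pullback (pullback.fst f σ)).obj L
  have h1 : CohIII.fiberRank f L 0 t = CurveRR.h Ω M 0 := by
    rw [PicFam.fiberRank_eq_betti, ← hσ, ← PicSmooth.betti_of_isPullback sq L (TMul.isQCoh_of_isInvertible hL) y 0]
    exact betti_field (QC.isQCoh_pullback _ (TMul.isQCoh_of_isInvertible hL)) y 0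
  rw [h1]
  let s : Spec (CommRingCat.of Ω) ⟶ X := pullback.lift (σ ≫ x) (𝟙 _) (by rw [Category.assoc, hx, Category.comp_id, Category.id_comp])
  have hs : s ≫ (X ↘ Spec (CommRingCat.of Ω)) = 𝟙 _ := pullback.lift_snd _ _ _
  have sqs : IsPullback σ s x (pullback.fst f σ) := by
    refine IsPullback.of_bot (v₂₁ := X ↘ Spec (CommRingCat.of Ω)) (v₂₂ := f) (h₃₁ := σ) ?_
      (pullback.lift_fst _ _ _).symm sq
    rw [hs, hx]
    exact IsPullback.of_vert_isIso ⟨by simp⟩
  haveI : IsClosedImmersion (x ≫ f) := by rw [hx]; infer_instance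
  haveI : IsClosedImmersion x := IsClosedImmersion.of_comp x f
  haveI : IsClosedImmersion s := MorphismProperty.of_isPullback sqs ‹IsClosedImmersion x›
  have hr : Set.range s = {s y} := Set.eq_singleton_iff_unique_mem.2 ⟨⟨y, rfl⟩, by
    rintro _ ⟨z, rfl⟩
    haveI : Subsingleton (Spec (CommRingCat.of Ω)) := inferInstanceAs (Subsingleton (PrimeSpectrum Ω))
    rw [Subsingleton.elim z y]⟩
  have hP : IsClosed ({s y} : Set X) := hr ▸ s.isClosedEmbedding.isClosed_range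
  have hker : x.ker.comap (pullback.fst f σ) = Scheme.IdealSheafData.vanishingIdeal ⟨{s y}, hP⟩ := by
    rw [← AlmostBlow.ker_of_isPullback sqs, Nakai.ker_eq_vanishingIdeal]
    refine congrArg _ (Closeds.ext ?_)
    rw [Scheme.Hom.support_ker]
    show closure (Set.range s) = _
    rw [hr, hP.closure_eq]
    rfl
  obtain ⟨e⟩ := hLx
  have hI : PicF.IsInvertible (ClSub.idealMod x.ker) := Intersect.isInvertible_inverse hL ⟨e⟩
  have hJ := CurveRR.isInvertible_pointIdeal hXdim.le hP (CurveRR.genericPoint_ne_of_closed (k := Ω) hXdim hP)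
    (SmLocalST.isRegularLocalRing_stalk_of_smooth_field (X ↘ Spec (CommRingCat.of Ω)) (s y))
  obtain ⟨e'⟩ := Nakai.nonempty_pullback_idealMod (pullback.fst f σ) ((Groth.Agent.S8914.result _).1 hI)
    (hker ▸ (Groth.Agent.S8914.result _).1 hJ)
  obtain ⟨a⟩ := TMul.nonempty_pullTensorIso (pullback.fst f σ) L (ClSub.idealMod x.ker)
  refine h0_le_one hXdim hgen hP (PicLoc.isInvertible_pullback _ hL) ⟨?_⟩ s hs fun p => ?_
  · exact PicGrp.tensorModIso (Iso.refl _) (e' ≪≫ eqToIso (congrArg ClSub.idealMod hker)).symm ≪≫ a ≪≫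
      (Scheme.Modules.pullback (pullback.fst f σ)).mapIso e ≪≫ PicLoc.pullbackStructureIso _
  · haveI : Subsingleton (Spec (CommRingCat.of Ω)) := inferInstanceAs (Subsingleton (PrimeSpectrum Ω))
    rw [Subsingleton.elim p y]

include hdim hg hL hx hLx in
/-- `h⁰(O(x_t)) ≤ 1`. -/
theorem fiberRank_le_one_of_inverse (t : S) : CohIII.fiberRank f L 0 t ≤ 1 := by
  obtain ⟨Ω, _, _, σ, y, hy⟩ := exists_geomPt S t
  exact fiberRank_le_one_of_inverse_aux f hdim hg hL x hx hLx t Ω σ y hy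

include hdim hx in
/-- Off a section in every fibre. -/
theorem exists_notMem_section (t : S) : ∃ z : C, f z = t ∧ z ∉ Set.range x := by
  by_contra! h
  haveI : Subsingleton ↥(f.fiber t) := by
    refine ⟨fun a b => (f.fiberι t).isEmbedding.injective ?_⟩
    have hmem : ∀ c : ↥(f.fiber t), f (f.fiberι t c) = t := fun c =>
      (f.range_fiberι t).le (Set.mem_range_self c)
    obtain ⟨u, hu⟩ := h _ (hmem a)
    obtain ⟨v, hv⟩ := h _ (hmem b)
    have hpu : ∀ w, f (x w) = w := fun w => congr($hx w)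
    have hu' : u = t := by rw [← hpu u, hu, hmem a]
    have hv' : v = t := by rw [← hpu v, hv, hmem b]
    rw [← hu, ← hv, hu', hv']
  have h1 := hdim t
  rcases isEmpty_or_nonempty ↥(f.fiber t) with hE | hE
  · haveI : IsEmpty (IrreducibleCloseds ↥(f.fiber t)) := ⟨fun Z => isEmptyElim Z.isIrreducible.nonempty.some⟩
    rw [topologicalKrullDim, Order.krullDim_eq_bot] at h1
    simp at h1
  · have h0 := topologicalKrullDim_zero_of_discreteTopology ↥(f.fiber t)
    rw [h1] at h0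
    exact absurd h0 (by norm_num)

include hL hx hLx in
/-- The canonical section of `O(x)`. -/
theorem exists_section_of_inverse : ∃ s : Coh.structureModule C ⟶ L, PicF2.zeroScheme L s = x.ker ∧
    ∀ z : C, z ∉ Set.range x → z ∈ CohB1.genLocus L s := by
  obtain ⟨e⟩ := hLx
  haveI : IsClosedImmersion (x ≫ f) := by rw [hx]; infer_instance
  haveI : IsClosedImmersion x := IsClosedImmersion.of_comp x f
  obtain ⟨s, hs⟩ := exists_section ((Groth.Agent.S8914.result _).1 (Intersect.isInvertible_inverse hL ⟨e⟩)) hL ⟨e⟩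
  refine ⟨s, hs, fun z hz => mem_genLocus_of_notMem hL s fun hmem => hz ?_⟩
  rw [hs] at hmem
  have h2 : z ∈ closure (Set.range x) := x.support_ker ▸ hmem
  rwa [x.isClosedEmbedding.isClosed_range.closure_eq] at h2

include hdim hg hL hx hLx in
/-- `x` is determined by `O(x)`. -/
theorem eq_of_inverse (x' : S ⟶ C) (hx' : x' ≫ f = 𝟙 S) (hLx' : ClSub.IsInverseOf L (ClSub.idealMod x'.ker)) :
    x' = x := by
  haveI : IsClosedImmersion (x ≫ f) := by rw [hx]; infer_instance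
  haveI : IsClosedImmersion x := IsClosedImmersion.of_comp x f
  haveI : IsClosedImmersion (x' ≫ f) := by rw [hx']; infer_instance
  haveI : IsClosedImmersion x' := IsClosedImmersion.of_comp x' f
  obtain ⟨s, hs, hsg⟩ := exists_section_of_inverse f hL x hx hLx
  obtain ⟨s', hs', hsg'⟩ := exists_section_of_inverse f hL x' hx' hLx'
  suffices key : ∀ (W : S.Opens), IsAffineOpen W → W.ι ≫ x' = W.ι ≫ x from
    Scheme.Cover.hom_ext (Scheme.openCoverOfIsOpenCover S (fun W : S.affineOpens => W.1) (iSup_affineOpens_eq_top S))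
      _ _ fun W => key _ W.2
  intro W hW
  haveI : IsAffine (W : Scheme.{u}) := hW
  let p := f ∣_ W
  haveI : IsProper p := IsZariskiLocalAtTarget.restrict (P := @IsProper) ‹_› W
  haveI : Smooth p := IsZariskiLocalAtTarget.restrict (P := @Smooth) ‹_› W
  have sq : IsPullback (f ⁻¹ᵁ W).ι p f W.ι := (isPullback_morphismRestrict f W).flip
  let E := (Scheme.Modules.pullback (f ⁻¹ᵁ W).ι).obj L
  have hE : PicF.IsInvertible E := PicLoc.isInvertible_pullback _ hL
  have hr : ∀ t, CohIII.fiberRank p E 0 t ≤ 1 := fun t => by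
    rw [PicFam.fiberRank_eq_betti, PicSmooth.betti_of_isPullback sq L (TMul.isQCoh_of_isInvertible hL) t 0]
    exact fiberRank_le_one_of_inverse f hdim hg hL x hx hLx _
  have hne : ∀ (z₀ : S ⟶ C) (σ : Coh.structureModule C ⟶ L), z₀ ≫ f = 𝟙 S →
      (∀ z : C, z ∉ Set.range z₀ → z ∈ CohB1.genLocus L σ) →
      ∀ t : ↥W, ∃ z, p z = t ∧ z ∈ CohB1.genLocus E (pullSec (f ⁻¹ᵁ W).ι σ) := by
    intro z₀ σ hz₀ hσ t
    obtain ⟨z, hzt, hz⟩ := exists_notMem_section f hdim z₀ hz₀ t.1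
    have hzW : z ∈ f ⁻¹ᵁ W := by
      change f z ∈ W
      rw [hzt]
      exact t.2
    refine ⟨⟨z, hzW⟩, Subtype.ext ((morphismRestrict_base_coe f W ⟨z, hzW⟩).trans hzt), ?_⟩
    have h := TMul.genLocus_pullback (f ⁻¹ᵁ W).ι hL σ (PicLoc.pullbackStructureIso (f ⁻¹ᵁ W).ι).symm
    change (⟨z, hzW⟩ : ↥(f ⁻¹ᵁ W)) ∈ CohB1.genLocus E
      ((PicLoc.pullbackStructureIso (f ⁻¹ᵁ W).ι).symm.hom ≫ (Scheme.Modules.pullback (f ⁻¹ᵁ W).ι).map σ)
    rw [h]
    exact hσ z hz
  obtain ⟨c, hc⟩ := exists_smul_of_fibres p hE _ (hne x s hx hsg) hr (pullSec (f ⁻¹ᵁ W).ι s')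
  obtain ⟨c', hc'⟩ := exists_smul_of_fibres p hE _ (hne x' s' hx' hsg') hr (pullSec (f ⁻¹ᵁ W).ι s)
  have hker : (x ∣_ (f ⁻¹ᵁ W)).ker = (x' ∣_ (f ⁻¹ᵁ W)).ker := by
    rw [AlmostBlow.ker_of_isPullback (isPullback_morphismRestrict x (f ⁻¹ᵁ W)).flip,
      AlmostBlow.ker_of_isPullback (isPullback_morphismRestrict x' (f ⁻¹ᵁ W)).flip, ← hs, ← hs',
      ← zeroScheme_pullSec _ hL, ← zeroScheme_pullSec _ hL]
    exact le_antisymm (zeroScheme_le_of_smul hE _ _ c' hc') (zeroScheme_le_of_smul hE _ _ c hc)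
  let a := IsClosedImmersion.lift (x' ∣_ (f ⁻¹ᵁ W)) (x ∣_ (f ⁻¹ᵁ W)) hker.ge
  have ha : a ≫ (x' ∣_ (f ⁻¹ᵁ W)) = x ∣_ (f ⁻¹ᵁ W) := IsClosedImmersion.lift_fac _ _ _
  have h1 : a ≫ (x' ⁻¹ᵁ (f ⁻¹ᵁ W)).ι ≫ x' = (x ⁻¹ᵁ (f ⁻¹ᵁ W)).ι ≫ x := by
    rw [← morphismRestrict_ι, ← morphismRestrict_ι, reassoc_of% ha]
  have h2 : a ≫ (x' ⁻¹ᵁ (f ⁻¹ᵁ W)).ι = (x ⁻¹ᵁ (f ⁻¹ᵁ W)).ι := by
    have h := congrArg (· ≫ f) h1
    simpa only [Category.assoc, hx, hx', Category.comp_id] using h
  have hpre : x ⁻¹ᵁ (f ⁻¹ᵁ W) = W := by rw [← Scheme.Hom.comp_preimage, hx]; rfl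
  have h3 : (x ⁻¹ᵁ (f ⁻¹ᵁ W)).ι ≫ x' = (x ⁻¹ᵁ (f ⁻¹ᵁ W)).ι ≫ x := by
    rw [← h1, ← h2, Category.assoc]
  exact (Eq.rec (motive := fun V _ => V.ι ≫ x' = V.ι ≫ x) h3 hpre :)

end Groth.Agent.AbelMap
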